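import Cfsg.Agent.StdZ.Basic
import Cfsg.Agent.Co1T.M2
import Cfsg.Agent.Co1T.CI
import Cfsg.Agent.S2069

/-! The central involution of a standard subgroup `Co₀` is isolated (`isol`) (helper23). -/

set_option autoImplicit false
set_option maxRecDepth 100000
set_option linter.unusedSectionVars false

namespace Cfsg.Agent.StdZ.Co0

open Subgroup Cfsg.Agent.BG Cfsg.Agent.Comp Cfsg.Agent.Golay Cfsg.Agent.Leech Cfsg.Agent.Mon Cfsg.Agent.Co1T MulAction
open scoped Pointwise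

theorem conj_mul' {G : Type*} [Group G] (g a b : G) : g⁻¹ * a * g * (g⁻¹ * b * g) = g⁻¹ * (a * b) * g := by group

theorem sgc {c d : Finset GolayPt} {hc : c ∈ GSupp} (h : c = d) : sg c hc = sg d (h ▸ hc) := by subst h; rfl
theorem gm {s : ℕ} (h : isG s = true) : EG.ofMask s ∈ GSupp := (ofMask_mem_supports_iff (isG_lt h)).2 h
theorem SG_sq {a : CG} (h : a ∈ SG) : a * a = 1 := by obtain ⟨c, hc, rfl⟩ := h; exact sg_sq hc
theorem SG_comm {a b : CG} (h : a ∈ SG) (k : b ∈ SG) : Commute a b := by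
  obtain ⟨c, hc, rfl⟩ := h
  obtain ⟨d, hd, rfl⟩ := k
  exact (sg_mul hc hd).trans ((sgc (symmDiff_comm c d)).trans (sg_mul hd hc).symm)

theorem cnt {s : ℕ} {σ : MG} (h : RM s σ) :
    #(SG ⊓ C1[pm σ] : Subgroup CG) = countLt 4096 fun a => Nat.beq (img24 s (gE a)) (gE a) := by
  rw [← ncard_golay (p := fun S => σ • S = S) (pb := fun a => Nat.beq (img24 s a) a) fun t ht => by
    rw [h.smul_ofMask, nbeq]
    exact ⟨fun e => EG.ofMask_inj (h.imgP_lt _) (isG_lt ht) e, congrArg _⟩]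
  have k : ∀ c hc, sg c hc ∈ C1[pm σ] ↔ σ • c = c := fun c hc => by
    rw [mem_cent1, eq_comm, ← mul_inv_eq_iff_eq_mul, sg_conj]
    exact ⟨sg_inj, sgc⟩
  refine (Set.ncard_congr (fun S hS => sg S hS.1) (fun S hS => show _ ∈ SG ⊓ C1[pm σ] from ⟨⟨_, _, rfl⟩, (k _ _).2 hS.2⟩) (fun _ _ _ _ => sg_inj) ?_).symm
  rintro _ ⟨⟨c, hc, rfl⟩, e⟩
  exact ⟨c, ⟨hc, (k _ _).1 e⟩, rfl⟩

variable {G : Type*} [Group G] [Finite G] {j : CG →* G} (H : SZ j negC) {g : G}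
include H

theorem dec (hg : g ∈ C1[j negC]) : ∃ a, ∃ k ∈ C[j.range], g = j a * k :=
  H.dec Known.perf0.1 S2069.result (H.cz hg)

theorem conjE {B : Subgroup G} (h1 : B ≤ C1[j negC]) (h2 : ∀ b ∈ B, b * b = 1) (h3 : #B = 4096) :
    ∃ a, cj (j a) B = SG.map j := by
  obtain ⟨ρ, hρ⟩ := H.ex_rho fun _ => dec H
  have q : ∀ x ∈ mim ρ B, x * x = 1 := by
    rintro _ ⟨x, hx, rfl⟩
    rw [← map_mul, show x * x = 1 from Subtype.ext (h2 _ hx), map_one]
  have c := card_inf_mul_relIndex (mker ρ) B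
  have l : #(mker ρ ⊓ B : Subgroup G) ≤ 2 := H.oz ▸ Nat.card_zpowers (j negC) ▸ card_le_card (by
    rintro _ ⟨⟨x, hx, rfl⟩, hb⟩
    obtain ⟨a, k, hk, e⟩ := dec H x.2
    have : x.1 ∈ C[j.range] := by
      rcases mk1_eq_one.1 ((hρ x a k hk e).symm.trans hx) with rfl | rfl <;> rw [e]
      exacts [by simpa using hk, mul_mem H.zK hk]
    rcases H.uniq this (h2 _ hb) with e | e <;> simp [e])
  rw [← card_morphim h1, h3] at c
  obtain ⟨g, -, h⟩ := Co1A.conj_into (K := N0) (L := ⊤) (by rw [relIndex_top_right, index_N0]; decide) le_top (Co1A.pg_of_sq q)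
  have e := weak_V0 h (by rintro _ ⟨a, ha, rfl⟩; rw [← map_mul, q a ha, map_one]) (by rw [card_cj]; nlinarith)
  obtain ⟨a, rfl⟩ := mk1_surj g
  refine ⟨a, eq_of_le_of_card_ge ?_ (by rw [card_cj, h3, card_map_of_injective H.inj, card_SG])⟩
  rintro _ ⟨b, hb, rfl⟩
  obtain ⟨x, k, hk, rfl⟩ := dec H (h1 hb)
  have m : a * x * a⁻¹ ∈ SG := mk1_mem_V0.1 (e ▸ ⟨_, mem_mim_of ⟨_, h1 hb⟩ hb, by rw [hρ _ x k hk rfl]; rfl⟩)
  rw [MulEquiv.coe_toMonoidHom, MulAut.conj_apply, mul_assoc, mul_assoc, ← (kc hk a).inv_left.eq, ← map_inv, ← mul_assoc,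
    ← mul_assoc, ← map_mul, ← map_mul]
  refine mul_mem ⟨_, m, rfl⟩ ?_
  rcases H.sq hk (h2 _ hb) with ⟨-, rfl | rfl⟩ | ⟨f, -⟩
  exacts [one_mem _, ⟨_, ⟨_, _, rfl⟩, rfl⟩, absurd (by have := SG_sq m; rwa [conj_mul, f, negC_comm a, mul_inv_cancel_right] at this) negC_ne]

theorem toN {w : CG} (hw : w ∈ SG) (c : IsConj (j negC) (j w)) : ∃ n ∈ N[SG.map j], n * j negC * n⁻¹ = j w := by
  obtain ⟨g, e⟩ := isConj_iff.1 c
  obtain ⟨a, f⟩ := conjE H (B := cj g⁻¹ (SG.map j)) (by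
      rw [show j negC = g⁻¹ * j w * g⁻¹⁻¹ by rw [← e]; group, C1_conj]
      exact cj_mono _ (by rintro _ ⟨x, hx, rfl⟩; exact mem_cent1.2 ((SG_comm hx hw).map j)))
    (by rintro _ ⟨_, ⟨x, hx, rfl⟩, rfl⟩; rw [← map_mul, ← map_mul, SG_sq hx, map_one, map_one])
    (by rw [card_cj, card_map_of_injective H.inj, card_SG])
  rw [← cj_mul, ← mem_norm] at f
  exact ⟨_, inv_mem f, by rw [← e, mul_inv_rev, inv_inv, mul_assoc g, (H.jz a).inv_left.eq]; group⟩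

theorem key {y w : CG} (hy : y ∈ SG) (e : y * (pm zA * y * (pm zA)⁻¹) = w) : ¬ IsConj (j negC) (j w) := fun c => by
  have zz : pm zA * pm zA = 1 := by rw [← map_mul, Invol.mul_self_of order_zA, map_one]
  have y' := SG_conj (pm_mem zA) hy
  obtain ⟨n, hn, f⟩ := toN H (e ▸ mul_mem hy y') c
  have nE : ∀ a ∈ NN, j a ∈ N[SG.map j] := fun a ha => mem_norm_of_cj_le (by
    rintro _ ⟨_, ⟨x, hx, rfl⟩, rfl⟩; exact ⟨_, SG_conj ha hx, by simp⟩)
  have f' : j negC = n⁻¹ * j w * n := by rw [← f]; group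
  obtain ⟨a, k, hk, g⟩ := dec H (g := n⁻¹ * j (pm zA) * n) (mem_cent1.2 (by
    have : pm zA * w * (pm zA)⁻¹ = w := by
      rw [← e, ← conj_mul, (SG_comm hy y').eq]; congr 1
      rw [← mul_assoc, ← mul_assoc, zz, one_mul, mul_assoc, ← mul_inv_rev, zz, inv_one, mul_one]
    rw [f', conj_mul', conj_mul', ← map_mul, ← map_mul, mul_inv_eq_iff_eq_mul.1 this]))
  have hN : n⁻¹ * j (pm zA) * n ∈ N[SG.map j] := mul_mem (mul_mem (inv_mem hn) (nE _ (pm_mem _))) hn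
  have ac : ∀ x, j a * k * j x * (j a * k)⁻¹ = j (a * x * a⁻¹) := fun x => by
    rw [mul_assoc (j a), ← (kc hk x).eq, map_mul, map_mul, map_inv]; group
  obtain ⟨τ, d, hd, rfl⟩ : a ∈ NN := mk1_mem_N0.1 (norm_V0 ▸ mem_norm_of_cj_le (by
    rintro _ ⟨_, ⟨x, hx, rfl⟩, rfl⟩
    exact ⟨_, (mem_map_iff_mem H.inj).1 (ac x ▸ g ▸ conj_mem_of_norm hN ⟨x, hx, rfl⟩), by simp⟩))
  have ac' : ∀ x ∈ SG, n⁻¹ * j (pm zA) * n * j x * (n⁻¹ * j (pm zA) * n)⁻¹ = j (pm τ * x * (pm τ)⁻¹) := fun x hx => by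
    rw [g, ac, ← sg_mul_pm, mul_inv_rev, show ∀ a b c : CG, a * b * x * (c * a⁻¹) = a * (b * x * c) * a⁻¹ by intros; group,
      (SG_comm ⟨_, _, rfl⟩ (SG_conj (pm_mem τ) hx)).eq, mul_inv_cancel_right]
  have m : ∀ (σ : MG) (h : G), (∀ x ∈ SG, h * j x * h⁻¹ = j (pm σ * x * (pm σ)⁻¹)) →
      #(SG ⊓ C1[pm σ] : Subgroup CG) = #(SG.map j ⊓ C1[h] : Subgroup G) := fun σ h k => by
    rw [← card_map_of_injective H.inj]
    congr 2
    refine le_antisymm ?_ ?_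
    · rintro _ ⟨x, hx, rfl⟩
      exact ⟨⟨x, hx.1, rfl⟩, mem_cent1.2 (mul_inv_eq_iff_eq_mul.1 (by
        rw [k x hx.1, ← mem_cent1.1 hx.2, mul_inv_cancel_right])).symm⟩
    · rintro _ ⟨⟨x, hx, rfl⟩, c⟩
      exact ⟨x, ⟨hx, mem_cent1.2 (mul_inv_eq_iff_eq_mul.1 (H.inj (by
        rw [← k x hx, ← mem_cent1.1 c, mul_inv_cancel_right]))).symm⟩, rfl⟩
  have c1 : #(SG ⊓ C1[pm τ] : Subgroup CG) = 256 := by
    rw [m τ _ ac', show n⁻¹ * j (pm zA) * n = n⁻¹ * j (pm zA) * n⁻¹⁻¹ by rw [inv_inv], C1_conj, ← cj_of_norm (inv_mem hn),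
      ← cj_inf, card_cj, ← m zA _ fun x _ => by simp, cnt rep_zA.1]
    decide +kernel
  obtain ⟨_, ⟨u, hu, rfl⟩, e'⟩ := conj_mem_of_norm' hn ⟨y, hy, rfl⟩
  have z : symmDiff u (τ • u) = Finset.univ := sg_inj (hc := symmDiff_mem_supp hu (smul_mem_supports τ.2 hu))
    (hd := univ_mem_supp) (H.inj (by
      rw [← sg_mul (d := τ • u) hu (smul_mem_supports τ.2 hu), ← sg_conj τ hu, map_mul, ← ac' _ ⟨_, _, rfl⟩, e', show j (sg _ _) = _ from f', ← e]
      simp only [map_mul, map_inv]; group))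
  have t2 : τ * τ = 1 := pm_mem_SG (mk1_mem_V0.1 (cent_V0 ▸ by
    rintro _ ⟨x, hx, rfl⟩
    have := ac' _ (SG_conj (pm_mem τ) hx)
    rw [← ac' x hx, show ∀ h x : G, h * (h * x * h⁻¹) * h⁻¹ = h * h * x * (h * h)⁻¹ by intros; group, conj_mul', ← map_mul, zz,
      map_one] at this
    have : x = _ := H.inj (Eq.trans (by simp) this)
    rw [← map_mul, ← map_mul, map_mul pm, eq_comm]
    exact congrArg mk1 (mul_inv_eq_iff_eq_mul.1 (Eq.trans (by group) this.symm))))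
  rcases inv_cases (Invol.orderOf_two_iff.2 ⟨t2, by rintro rfl; exact absurd z (by simpa using Finset.univ_nonempty.ne_empty.symm)⟩)
    with ⟨κ, rfl⟩ | ⟨κ, rfl⟩
  · have p : zA • ({EG.dec 0} : Finset GolayPt) = {EG.dec 0} := by
      rw [show ({EG.dec 0} : Finset GolayPt) = EG.ofMask 1 by decide +kernel]; exact smul_mask rep_zA.1 (by decide +kernel)
    rw [Finset.smul_finset_singleton, Finset.singleton_inj] at p
    have := z ▸ Finset.mem_univ (κ • EG.dec 0)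
    have q : κ • EG.dec 0 ∈ (κ * zA * κ⁻¹) • u ↔ κ • EG.dec 0 ∈ u := by
      rw [← Finset.smul_mem_smul_finset_iff (κ * zA * κ⁻¹) (s := u), ← mul_smul _ κ, inv_mul_cancel_right, mul_smul κ zA (EG.dec 0), p]
    rw [Finset.mem_symmDiff, q] at this
    tauto
  · rw [map_mul, map_mul, map_inv, C1_conj, ← cj_of_norm (mem_norm_of_cj_le (A := SG) (g := pm κ) (by
      rintro _ ⟨x, hx, rfl⟩; exact SG_conj (pm_mem κ) hx)), ← cj_inf, card_cj, cnt rep_zB.1] at c1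
    revert c1; decide +kernel

theorem tr {c d : Finset GolayPt} {hc hd} (h : ∃ σ : MG, σ • c = d) (k : IsConj (j negC) (j (sg c hc))) :
    IsConj (j negC) (j (sg d hd)) := by
  obtain ⟨σ, rfl⟩ := h
  exact k.trans (j.map_isConj (isConj_iff.2 ⟨_, sg_conj σ hc⟩))

theorem n8 {c : Finset GolayPt} {hc} (h : c.card = 8 ∨ c.card = 16) : ¬ IsConj (j negC) (j (sg c hc)) := fun k => by
  have r : ∀ {s t} (hs : isG s = true) (ht : isG t = true), Nat.beq (mulC (sgC s) (mulC (mulC (pmC cA) (sgC s)) (invC (pmC cA))))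
      (sgC t) = true → ¬ IsConj (j negC) (j (sg _ (gm ht))) := fun hs ht e => key H ⟨_, gm hs, rfl⟩ (canC.func
    (grpC.mul (RC_sgC _) (grpC.mul (grpC.mul (RC_pmC rep_zA.1) (RC_sgC _)) (grpC.inv (RC_pmC rep_zA.1)))) (nbeq.1 e ▸ RC_sgC _))
  rcases h with h | h
  · exact r (s := 13062145) (t := 6100032) (by decide +kernel) (by decide +kernel) (by decide +kernel)
      (tr H (octad_transM (o' := EG.ofMask 6100032) ⟨hc, h⟩ ⟨gm (by decide +kernel), by decide +kernel⟩) k)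
  · obtain ⟨σ, e⟩ := octad_transM (o := cᶜ) (o' := (EG.ofMask 8241104)ᶜ) ⟨compl_mem_supp hc, by have := CVh.card_compl' c; omega⟩
      ⟨compl_mem_supp (gm (by decide +kernel)), by decide +kernel⟩
    exact r (s := 7262739) (t := 8241104) (by decide +kernel) (by decide +kernel) (by decide +kernel)
      (tr H ⟨σ, compl_injective (by rw [smul_compl', e])⟩ k)

theorem inE {w : CG} (hw : w ∈ SG) (k : IsConj (j negC) (j w)) : w = negC := by
  have d : ∀ c hc, IsConj (j negC) (j (sg c hc)) → sg c hc = negC ∨ c.card = 12 := fun c hc k => by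
    rcases card_supp hc with h | h | h | h | h
    · rw [sgc (Finset.card_eq_zero.1 h), show sg ∅ _ = 1 from mono_one, map_one, isConj_one_left] at k
      exact absurd k H.z1
    · exact absurd k (n8 H (.inl h))
    · exact .inr h
    · exact absurd k (n8 H (.inr h))
    · exact .inl (sgc (Finset.eq_univ_of_card c (h.trans card_pt.symm)))
  obtain ⟨c, hc, rfl⟩ := hw
  refine (d c hc k).resolve_right fun h => ?_
  have a : ∀ e he, e.card = 12 → IsConj (j negC) (j (sg e he)) := fun e he f => tr H (dodecad_transM ⟨hc, h⟩ ⟨he, f⟩) k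
  have y : EG.ofMask 11472927 ∈ GSupp := gm (by decide +kernel)
  obtain ⟨n, hn, e⟩ := toN H ⟨_, dod0_mem.1, rfl⟩ (a _ _ dod0_mem.2)
  obtain ⟨_, ⟨u, hu, rfl⟩, f⟩ := conj_mem_of_norm' hn ⟨_, ⟨_, y, rfl⟩, rfl⟩
  have f' : j (sg _ y) = n * j (sg u hu) * n⁻¹ := by rw [f]; group
  rcases d u hu ((a _ y (by decide +kernel)).trans (isConj_iff.2 ⟨n⁻¹, by rw [f, inv_inv]⟩)) with g | g
  · rw [g, e] at f'
    exact absurd (sg_inj (H.inj f')) (by decide +kernel)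
  · refine n8 H (hc := symmDiff_mem_supp y dod0_mem.1) (.inl (by decide +kernel))
      ((a _ (compl_mem_supp hu) (by have := CVh.card_compl' u; omega)).trans (isConj_iff.2 ⟨n, ?_⟩))
    rw [← sg_neg, ← sg_mul y dod0_mem.1, map_mul, map_mul, f', ← e, conj_mul]

/-- A conjugate of `z` in `C(z)` other than `z` is a product of two elements with square `z`. -/
theorem typ {u : G} (hu : u ∈ C1[j negC]) (h2 : u * u = 1) :
    (∃ a, u = j a ∧ (IsConj (j negC) u → a = negC)) ∨ ∃ a, ∃ k ∈ C[j.range], u = j a * k ∧ a * a = negC ∧ k * k = j negC := by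
  obtain ⟨a, k, hk, rfl⟩ := dec H hu
  refine (H.sq hk h2).imp (fun h => ?_) fun h => ⟨a, k, hk, rfl, h⟩
  obtain ⟨b, e⟩ : ∃ b, j a * k = j b := by
    rcases h.2 with rfl | rfl
    exacts [⟨a, mul_one _⟩, ⟨_, (map_mul j _ _).symm⟩]
  rw [e] at h2 ⊢
  have b2 : b * b = 1 := H.inj (by rw [map_mul, h2, map_one])
  refine ⟨b, rfl, fun c => ?_⟩
  obtain ⟨x, hx⟩ : ∃ x, mk1 x * mk1 b * (mk1 x)⁻¹ ∈ V0 := by
    by_cases f : mk1 b = 1
    · exact ⟨1, by rw [f]; simp⟩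
    have v : ∀ v ∈ V0, IsConj v (mk1 b) → ∃ x, mk1 x * mk1 b * (mk1 x)⁻¹ ∈ V0 := fun v hv c => by
      obtain ⟨x, e⟩ := isConj_iff.1 c.symm
      obtain ⟨x, rfl⟩ := mk1_surj x
      exact ⟨x, e ▸ hv⟩
    rcases inv_cases1 _ (Invol.orderOf_two_iff.2 ⟨by rw [← map_mul, b2, map_one], f⟩) with c | c | c
    exacts [v _ z0_V c, v _ t0_V c, absurd c.symm (not_conj_s0 b2)]
  have := inE H (w := x * b * x⁻¹) (mk1_mem_V0.1 (by simpa using hx)) (c.trans (j.map_isConj (isConj_iff.2 ⟨x, rfl⟩)))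
  rw [mul_inv_eq_iff_eq_mul, ← negC_comm] at this
  exact mul_left_cancel this

omit H in
theorem to_s1 {a : CG} (h : a * a = negC) : ∃ x, x * a * x⁻¹ = s1 := by
  have l : ∀ v, v * v = 1 → ¬ IsConj (mk1 v) (mk1 a) := fun v hv c => by
    obtain ⟨x, e⟩ := isConj_iff.1 c
    obtain ⟨x, rfl⟩ := mk1_surj x
    rw [← map_inv, ← map_mul, ← map_mul, mk1_eq] at e
    have k : x * v * x⁻¹ * (x * v * x⁻¹) = 1 := by rw [conj_mul, hv]; simp
    refine negC_ne (h.symm.trans ?_)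
    rcases e with rfl | rfl
    exacts [k, by rw [(Commute.symm (negC_comm _)).mul_mul_mul_comm, negC_sq, mul_one, k]]
  rcases inv_cases1 (mk1 a) (Invol.orderOf_two_iff.2 ⟨by rw [← map_mul, h, mk1_neg], fun e => negC_ne (by
    rcases mk1_eq_one.1 e with rfl | rfl
    exacts [h.symm.trans (mul_one 1), h.symm.trans negC_sq])⟩) with c | c | c
  · exact absurd c (l _ (sg_sq _))
  · exact absurd c (l _ (sg_sq _))
  obtain ⟨x, e⟩ := isConj_iff.1 c.symm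
  obtain ⟨x, rfl⟩ := mk1_surj x
  rw [← map_inv, ← map_mul, ← map_mul, s0, eq_comm, mk1_eq] at e
  rcases e with e | e
  · exact ⟨x, e⟩
  · exact ⟨sg _ cS_mem * x, by
      rw [show ∀ s : CG, s * x * a * (s * x)⁻¹ = s * (x * a * x⁻¹) * s⁻¹ by intros; group, e]
      exact canC.func (grpC.mul (grpC.mul (RC_sgC _) (grpC.mul r_s1 r_neg)) (grpC.inv (RC_sgC _)))
        (by convert r_s1 using 1; decide +kernel)⟩

theorem cT {a b : CG} {k l : G} (hk : k ∈ C[j.range]) (hl : l ∈ C[j.range]) (ha : a * a = negC) (hb : b * b = negC)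
    (k2 : k * k = j negC) (l2 : l * l = j negC) : ∃ x ∈ C1[j negC], x * (j a * k) * x⁻¹ = j b * l := by
  obtain ⟨c, hc, e⟩ := H.four hk hl k2 l2
  have t : ∀ b' : CG, b' * b' = negC → ∃ x ∈ C1[j negC], x * (j a * k) * x⁻¹ = j b' * (c * k * c⁻¹) := fun b' h => by
    obtain ⟨x, hx⟩ := to_s1 ha
    obtain ⟨y, hy⟩ := to_s1 h
    refine ⟨j (y⁻¹ * x) * c, mul_mem (mem_cent1.2 (H.jz _)) (mem_cent1.2 (kc hc _).symm), ?_⟩
    rw [show b' = y⁻¹ * x * a * (y⁻¹ * x)⁻¹ by rw [← (MulAut.conj y).injective.eq_iff]; simp [hy, ← hx, mul_assoc],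
      map_mul j _ _⁻¹, map_mul j _ a, mul_assoc _ _ (c * k * c⁻¹), (kc (mul_mem (mul_mem hc hk) (inv_mem hc)) _).eq, map_inv,
      mul_assoc _ c, ← mul_assoc c, ← (kc hc a).eq]
    group
  rcases e with rfl | e
  · exact t b hb
  · obtain ⟨x, hx, f⟩ := t (b * negC) (by rw [(Commute.symm (negC_comm _)).mul_mul_mul_comm, negC_sq, mul_one, hb])
    exact ⟨x, hx, by rw [f, e, map_mul, mul_assoc, ← mul_assoc (j negC), (kc hl _).eq, mul_assoc l, H.zz, mul_one]⟩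

theorem isol (g : G) (c : Commute (j negC) (g * j negC * g⁻¹)) : g * j negC * g⁻¹ = j negC := by
  by_contra ne
  have T : ∀ u ∈ C1[j negC], IsConj (j negC) u → u ≠ j negC →
      ∃ a, ∃ k ∈ C[j.range], u = j a * k ∧ a * a = negC ∧ k * k = j negC := fun u hu c ne => by
    obtain ⟨g, rfl⟩ := isConj_iff.1 c
    exact (typ H hu (by rw [conj_mul, H.zz]; simp)).resolve_left fun ⟨a, e, f⟩ => ne (by rw [e, f c])
  obtain ⟨a, k, hk, e, a2, k2⟩ := T _ (mem_cent1.2 c.symm) (isConj_iff.2 ⟨g, rfl⟩) ne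
  obtain ⟨x, hx, f⟩ := cT H hk hk a2 s1_sq k2 k2
  obtain ⟨h, hh⟩ : ∃ h, h⁻¹ * (j s1 * k) * h = j negC := ⟨x * g, by rw [← f, ← e]; group⟩
  have y : EG.ofMask 3416079 ∈ GSupp := gm (by decide +kernel)
  have m : ∀ w ∈ SG, Commute w s1 → h⁻¹ * j w * h ∈ C1[j negC] := fun w _ c => mem_cent1.2 (by
    rw [← hh, conj_mul', conj_mul', ((c.map j).mul_right (kc hk w)).eq])
  have cj : ∀ w, IsConj w (h⁻¹ * w * h) := fun w => isConj_iff.2 ⟨h⁻¹, by rw [inv_inv]⟩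
  have mz := m negC ⟨_, _, rfl⟩ (negC_comm _).symm
  obtain ⟨b, l, hl, e', b2, l2⟩ := T _ mz (cj _) fun e => by
    replace e := mul_left_cancel (mul_right_cancel (e.trans hh.symm))
    have := H.inter (a := s1) (by rw [eq_mul_inv_of_mul_eq e.symm]; exact mul_mem H.zK (inv_mem hk))
    exact negC_ne (s1_sq.symm.trans (by rcases this with e | e <;> simp [e, negC_sq]))
  have A : ∀ w ∈ SG, Commute w s1 → w ≠ negC → h⁻¹ * j w * h ∈ j.range := fun w hw c n => by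
    rcases typ H (m w hw c) (by rw [conj_mul', ← map_mul, SG_sq hw]; simp) with ⟨a, e, -⟩ | ⟨a, k, hk, e, a2, k2⟩
    · exact ⟨a, e.symm⟩
    · obtain ⟨x, -, f⟩ := cT H hl hk b2 a2 l2 k2
      exact absurd (inE H hw (((cj _).trans (isConj_iff.2 ⟨x, by rw [e', f, e]⟩)).trans (cj _).symm)) n
  have cs : Commute (sg _ y) s1 := (commC_iff grpC canC (RC_sgC y) r_s1).2 (by decide +kernel)
  have := mul_mem (A _ ⟨_, y, rfl⟩ cs fun e => absurd (sg_inj e) (by decide +kernel))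
    (A (sg _ y * negC) (mul_mem ⟨_, y, rfl⟩ ⟨_, _, rfl⟩) (cs.mul_left (negC_comm _).symm) fun e =>
      absurd (sg_inj ((mul_eq_right.1 e).trans mono_one.symm)) (by decide +kernel))
  rw [conj_mul', ← map_mul, ← mul_assoc, sg_sq, one_mul, e', j.range.mul_mem_cancel_left ⟨b, rfl⟩] at this
  obtain ⟨d, rfl⟩ := this
  refine H.z1 (l2.symm.trans ?_)
  rcases H.inter hl with rfl | rfl
  exacts [by simp, H.zz]

end Cfsg.Agent.StdZ.Co0
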