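import Cfsg.Agent.Gen2.Cyc
import Cfsg.Agent.Invol.ZS
import Cfsg.Agent.BG.Base1
import Cfsg.Prelude.Def_KGroupFacts

/-! Standard subgroups with a centre of order 2 and cyclic Sylow 2-subgroups in the centraliser (`SZ`) (helper23). -/

set_option autoImplicit false
set_option linter.unusedSectionVars false

namespace Cfsg.Agent.StdZ

open Subgroup Cfsg.Agent.BG

variable {G X : Type*} [Group G] [Finite G] [Group X] {j : X →* G} {n a b : X} {g k l : G}

theorem cyc_conj {K : Subgroup G} (h : ∀ R : Sylow 2 K, IsCyclic (R : Subgroup K)) {x y : G} (hx : x ∈ K) (hy : y ∈ K)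
    (o : orderOf x ∣ orderOf y) (oy : y ^ 2 ^ 2 = 1) : ∃ k ∈ K, k * x * k⁻¹ ∈ zpowers y := by
  have : Fact (Nat.Prime 2) := ⟨Nat.prime_two⟩
  have p : ∀ u : K, u.1 ^ 2 ^ 2 = 1 → IsPGroup 2 (zpowers u) := fun u e ⟨_, i, f⟩ => ⟨2, Subtype.ext (Subtype.ext (by
    subst f; simp only [coe_zpow, ← zpow_natCast, ← zpow_mul, mul_comm i]
    rw [zpow_mul, zpow_natCast, e, one_zpow]; rfl))⟩
  obtain ⟨P, hP⟩ := (p ⟨x, hx⟩ (orderOf_dvd_iff_pow_eq_one.1 (o.trans (orderOf_dvd_of_pow_eq_one oy)))).exists_le_sylow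
  obtain ⟨R, hR⟩ := (p ⟨y, hy⟩ oy).exists_le_sylow
  obtain ⟨k, rfl⟩ := MulAction.exists_smul_eq K P R
  have := h (k • P)
  obtain ⟨i, e⟩ := Gen2.mem_zpowers_of_orderOf_dvd (C := ((k • P : Sylow 2 K) : Subgroup K)) (x := MulAut.conj k ⟨x, hx⟩)
    ⟨_, hP (mem_zpowers _), rfl⟩ (hR (mem_zpowers _)) (by rwa [MulEquiv.orderOf_eq, ← orderOf_coe, ← orderOf_coe])
  exact ⟨k, k.2, i, congrArg Subtype.val e⟩

structure SZ (j : X →* G) (n : X) : Prop where
  inj : Function.Injective j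
  n2 : orderOf n = 2
  cen : ∀ x, x ∈ center X ↔ x = 1 ∨ x = n
  cyc : ∀ R : Sylow 2 C[j.range], IsCyclic (R : Subgroup C[j.range])
  cz : C1[j n] ≤ N[j.range]

theorem of_std {A : Subgroup G} (hA : IsStandardSubgroup A) (e : A ≃* X) (n2 : orderOf n = 2)
    (cen : ∀ x, x ∈ center X ↔ x = 1 ∨ x = n) (hR : ∀ R : Sylow 2 C[A], IsCyclic (R : Subgroup C[A])) :
    ∃ j : X →* G, j.range = A ∧ SZ j n := by
  have r : (A.subtype.comp e.symm.toMonoidHom).range = A := by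
    rw [MonoidHom.range_comp, MonoidHom.range_eq_top.2 e.symm.surjective, ← MonoidHom.range_eq_map, range_subtype]
  have i : Function.Injective (A.subtype.comp e.symm.toMonoidHom) := A.subtype_injective.comp e.symm.injective
  generalize A.subtype.comp e.symm.toMonoidHom = j at r i
  subst r
  refine ⟨j, rfl, i, n2, cen, hR, fun g hg => hA.2.2.2 ▸ by_contra fun h => ?_⟩
  have m : j n ∈ C[j.range] := by
    rintro _ ⟨x, rfl⟩
    rw [← map_mul, mem_center_iff.1 ((cen n).2 (.inr rfl)), map_mul]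
  refine (hA.2.1.2 g h).not_two_dvd_nat ?_
  rw [← n2, ← orderOf_injective j i]
  exact orderOf_dvd_natCard _ ⟨m, _, m, mul_inv_eq_iff_eq_mul.2 (mem_cent1.1 hg)⟩

theorem kc (hk : k ∈ C[j.range]) (a : X) : Commute (j a) k := hk _ ⟨a, rfl⟩

namespace SZ
variable (H : SZ j n)
include H

theorem nc (a : X) : Commute a n := mem_center_iff.1 ((H.cen n).2 (.inr rfl)) a
theorem jz (a : X) : Commute (j a) (j n) := (H.nc a).map j
theorem zK : j n ∈ C[j.range] := by rintro _ ⟨a, rfl⟩; exact H.jz a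
theorem oz : orderOf (j n) = 2 := (orderOf_injective j H.inj n).trans H.n2
theorem nn : n * n = 1 := Invol.mul_self_of H.n2
theorem zz : j n * j n = 1 := Invol.mul_self_of H.oz
theorem z1 : j n ≠ 1 := Invol.ne_one_of H.oz
theorem inter (h : j a ∈ C[j.range]) : a = 1 ∨ a = n :=
  (H.cen a).1 (mem_center_iff.2 fun x => H.inj (by rw [map_mul, map_mul, (kc h x).eq]))

theorem uniq (hk : k ∈ C[j.range]) (h : k * k = 1) : k = 1 ∨ k = j n := by
  obtain ⟨c, hc, e⟩ := cyc_conj H.cyc hk H.zK (H.oz ▸ orderOf_dvd_of_pow_eq_one (by rw [pow_two, h]))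
    (by rw [pow_two, pow_mul, pow_two (j n), H.zz, one_pow])
  refine ((Invol.mem_zpowers_invol H.zz).1 e).imp (fun e => by simpa using e) fun e => ?_
  rw [← (MulAut.conj c).injective.eq_iff]
  exact e.trans (mul_inv_eq_iff_eq_mul.2 (kc hc n).symm).symm

theorem four (hk : k ∈ C[j.range]) (hl : l ∈ C[j.range]) (h : k * k = j n) (h' : l * l = j n) :
    ∃ c ∈ C[j.range], c * k * c⁻¹ = l ∨ c * k * c⁻¹ = l * j n := by
  have : Fact (Nat.Prime 2) := ⟨Nat.prime_two⟩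
  have p : ∀ k : G, k * k = j n → k ^ 2 ^ 2 = 1 := fun k h => by rw [pow_two, pow_mul, pow_two k, h, pow_two, H.zz]
  have o : orderOf l = 2 ^ (1 + 1) := orderOf_eq_prime_pow (by rw [pow_one, pow_two, h']; exact H.z1) (p l h')
  obtain ⟨c, hc, e⟩ := cyc_conj H.cyc hk hl (o ▸ orderOf_dvd_of_pow_eq_one (p k h)) (p l h')
  refine ⟨c, hc, ?_⟩
  have s : c * k * c⁻¹ * (c * k * c⁻¹) = j n := by
    rw [conj_mul, h, ← (kc hc n).eq, mul_inv_cancel_right]
  classical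
  rw [mem_zpowers_iff_mem_range_orderOf, o] at e
  obtain ⟨i, hi, e⟩ := Finset.mem_image.1 e
  rw [Finset.mem_range] at hi
  rw [← e] at s ⊢
  interval_cases i
  · exact absurd (by simpa using s.symm) H.z1
  · exact .inl (pow_one l)
  · exact absurd (s.symm.trans (by rw [pow_two, h', H.zz])) H.z1
  · exact .inr (by rw [pow_three, h'])

theorem wd (hk : k ∈ C[j.range]) (hl : l ∈ C[j.range]) (e : j a * k = j b * l) :
    (a : X ⧸ center X) = b := QuotientGroup.eq.2 ((H.cen _).2 (H.inter (by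
  rw [map_mul, map_inv, show (j a)⁻¹ * j b = k * l⁻¹ by rw [inv_mul_eq_iff_eq_mul, ← mul_assoc, e, mul_inv_cancel_right]]
  exact mul_mem hk (inv_mem hl))))

theorem sq (hk : k ∈ C[j.range]) (h : j a * k * (j a * k) = 1) :
    a * a = 1 ∧ (k = 1 ∨ k = j n) ∨ a * a = n ∧ k * k = j n := by
  rw [(kc hk a).symm.mul_mul_mul_comm, ← map_mul] at h
  refine (H.inter (eq_inv_of_mul_eq_one_left h ▸ inv_mem (mul_mem hk hk))).imp (fun e => ⟨e, H.uniq hk ?_⟩) fun e => ⟨e, ?_⟩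
  · rwa [e, map_one, one_mul] at h
  · rw [e] at h; exact mul_left_cancel (h.trans H.zz.symm)

theorem dec (hp : commutator X = ⊤) (ho : Nat.card (Out (X ⧸ center X)) = 1) (hg : g ∈ N[j.range]) :
    ∃ a, ∃ k ∈ C[j.range], g = j a * k := by
  let e := MonoidHom.ofInjective H.inj
  let β : X ≃* X := e.trans ((j.range.normalizerMonoidHom ⟨g, hg⟩).trans e.symm)
  have hβ : ∀ x, j (β x) = g * j x * g⁻¹ := fun x => MonoidHom.apply_ofInjective_symm H.inj _
  have := (Nat.card_eq_one_iff_unique.1 ho).1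
  obtain ⟨a, ha⟩ := (QuotientGroup.eq_one_iff (N := Inn _) (QuotientGroup.congr (center X) (center X) β
    (characteristic_iff_map_eq.1 inferInstance β))).1 (Subsingleton.elim _ _)
  obtain ⟨a, rfl⟩ := QuotientGroup.mk_surjective a
  let γ := (β.trans (MulAut.conj a⁻¹)).toMonoidHom
  have q : ∀ x, ∃ c ∈ center X, γ x = x * c := fun x => ⟨x⁻¹ * γ x, QuotientGroup.eq.1 (by
    have : ((a * x * a⁻¹ : X) : X ⧸ center X) = β x := DFunLike.congr_fun ha (x : X ⧸ center X)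
    show _ = (((a⁻¹ * β x * a⁻¹⁻¹ : X)) : X ⧸ center X)
    simp only [QuotientGroup.mk_mul, QuotientGroup.mk_inv, ← this]; group), by group⟩
  have l : commutator X ≤ γ.eqLocus (MonoidHom.id X) := commutator_le.2 fun x _ y _ => by
    obtain ⟨c, hc, e⟩ := q x
    obtain ⟨d, hd, f⟩ := q y
    show γ (x * y * x⁻¹ * y⁻¹) = x * y * x⁻¹ * y⁻¹
    simp only [map_mul, map_inv, e, f, mul_inv_rev]
    calc _ = x * (c * (y * d) * c⁻¹) * (x⁻¹ * d⁻¹) * y⁻¹ := by group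
      _ = _ := by rw [← mem_center_iff.1 hc, mem_center_iff.1 (inv_mem hd)]; group
  refine ⟨a, (j a)⁻¹ * g, ?_, by group⟩
  rintro _ ⟨x, rfl⟩
  have : j (a⁻¹ * β x * a⁻¹⁻¹) = j x := congrArg j (l (hp ▸ mem_top x))
  rw [map_mul, map_mul, hβ, inv_inv, map_inv] at this
  exact (mul_inv_eq_iff_eq_mul.1 (Eq.trans (by group) this)).symm

theorem ex_rho (d : ∀ g ∈ C1[j n], ∃ a, ∃ k ∈ C[j.range], g = j a * k) :
    ∃ ρ : C1[j n] →* X ⧸ center X, ∀ g a, ∀ k ∈ C[j.range], g.1 = j a * k → ρ g = a := by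
  choose f k hk e using d
  refine ⟨MonoidHom.mk' (fun g => f g.1 g.2) fun g h => H.wd (hk _ (g * h).2) (mul_mem (hk _ g.2) (hk _ h.2)) ?_,
    fun g a l hl e' => H.wd (hk _ g.2) hl ((e _ _).symm.trans e')⟩
  rw [← e, map_mul, (kc (hk _ g.2) _).mul_mul_mul_comm, ← e, ← e]; rfl

theorem normal_of (hO : oddCore G = ⊥) (w : ∀ g, Commute (j n) (g * j n * g⁻¹) → g * j n * g⁻¹ = j n) : j.range.Normal :=
  normalizer_eq_top_iff.1 (eq_top_iff.2 fun g _ => by
    obtain ⟨o, ho, c, hc, rfl⟩ := Invol.Isolated.factor ⟨H.oz, w⟩ g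
    rw [mem_bot.1 (hO.le ho), one_mul]
    exact H.cz (mem_cent1.2 hc))

end SZ

end Cfsg.Agent.StdZ
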