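import Cfsg.Agent.StdZ.Basic
import Cfsg.Agent.BG.Base2

/-! Isolation of the central involution of a standard subgroup from class data (`isol_of`, `noconj`) (helper23). -/

set_option autoImplicit false
set_option linter.unusedSectionVars false

namespace Cfsg.Agent.StdZ

open Subgroup Cfsg.Agent.BG

variable {G X : Type*} [Group G] [Finite G] [Group X] {j : X →* G} {n : X}

theorem cmul (g a b : G) : g⁻¹ * a * g * (g⁻¹ * b * g) = g⁻¹ * (a * b) * g := by group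

/-- number of square roots of `u` in `T`. -/
noncomputable def rt (T : Subgroup X) (u : X) : ℕ := {a | a ∈ T ∧ a * a = u}.ncard

theorem rt_eq {T : Subgroup G} {u v : G} (f : G ≃ G) (h : ∀ a, a ∈ T ∧ a * a = u ↔ f a ∈ T ∧ f a * f a = v) :
    rt T u = rt T v := Set.ncard_congr (fun a _ => f a) (fun a => (h a).1) (fun _ _ _ _ e => f.injective e)
      fun b hb => ⟨f.symm b, (h _).2 (by simpa using hb), by simp⟩

theorem rt_map (hj : Function.Injective j) (T : Subgroup X) (u : X) : rt (T.map j) (j u) = rt T u :=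
  (Set.ncard_congr (fun a _ => j a) (fun a h => show _ ∧ _ from ⟨⟨a, h.1, rfl⟩, by rw [← map_mul, h.2]⟩) (fun _ _ _ _ e => hj e) (by
    rintro _ ⟨⟨a, h, rfl⟩, e⟩; exact ⟨a, ⟨h, hj (by rw [map_mul, e])⟩, rfl⟩)).symm

namespace SZ
variable (H : SZ j n) (dec : ∀ g ∈ C1[j n], ∃ a, ∃ k ∈ C[j.range], g = j a * k)
include H dec

theorem inS {T : Subgroup X} (hT : ∀ U : Subgroup X, IsPGroup 2 U → T ≤ U → U ≤ T) {S : Subgroup G} (h1 : S ≤ C1[j n])
    (h2 : IsPGroup 2 S) (h3 : T.map j ≤ S) {s : G} (hs : s ∈ S) : ∃ a ∈ T, ∃ k ∈ C[j.range], k ∈ S ∧ s = j a * k := by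
  let U : Subgroup X :=
    { carrier := {a | ∃ k ∈ C[j.range], j a * k ∈ S}
      one_mem' := ⟨1, one_mem _, by simp⟩
      mul_mem' := fun {a b} ⟨k, hk, e⟩ ⟨l, hl, f⟩ => ⟨k * l, mul_mem hk hl, by
        rw [map_mul, ← (kc hk b).symm.mul_mul_mul_comm]; exact mul_mem e f⟩
      inv_mem' := fun {a} ⟨k, hk, e⟩ => ⟨k⁻¹, inv_mem hk, by
        rw [map_inv, ← mul_inv_rev, ← (kc hk a).eq]; exact inv_mem e⟩ }
  obtain ⟨a, k, hk, rfl⟩ := dec s (h1 hs)
  have ha : a ∈ T := hT U (fun ⟨b, l, hl, e⟩ => by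
    obtain ⟨m, f⟩ := h2 ⟨_, e⟩
    replace f : j (b ^ 2 ^ m) * l ^ 2 ^ m = 1 := by rw [map_pow, ← (kc hl b).mul_pow]; exact congrArg Subtype.val f
    refine ⟨m + 1, Subtype.ext (show b ^ 2 ^ (m + 1) = 1 from ?_)⟩
    rw [pow_succ, pow_mul, pow_two]
    rcases H.inter (eq_inv_of_mul_eq_one_left f ▸ inv_mem (pow_mem hl _)) with e | e <;> rw [e]
    exacts [one_mul 1, H.nn]) (fun b hb => ⟨1, one_mem _, by simpa using h3 ⟨b, hb, rfl⟩⟩) ⟨k, hk, hs⟩
  exact ⟨a, ha, k, hk, (S.mul_mem_cancel_left (h3 ⟨a, ha, rfl⟩)).1 hs, rfl⟩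

theorem noconj {T : Subgroup X} (hp : IsPGroup 2 T) (hT : ∀ U : Subgroup X, IsPGroup 2 U → T ≤ U → U ≤ T) (hn : n ∈ T)
    {w : X} (hc : ∀ a ∈ T, Commute a w) (c1 : rt T n ≠ rt T w) (c2 : rt T n ≠ rt T (w * n)) :
    ¬ IsConj (j n) (j w) := fun c => by
  have : Fact (Nat.Prime 2) := ⟨Nat.prime_two⟩
  obtain ⟨g, e⟩ := isConj_iff.1 c
  obtain ⟨S, hS, h3⟩ := Sylow_superset (Q := T.map j) (M := C1[j n]) (by
    rintro _ ⟨a, -, rfl⟩; exact mem_cent1.2 (H.jz a)) (hp.map j)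
  have d := @H.inS _ _ _ _ _ _ _ dec T hT S hS.1 hS.pg h3
  have l : S ≤ C1[j w] := fun s hs => by
    obtain ⟨a, ha, k, hk, -, rfl⟩ := d hs
    exact mem_cent1.2 (((hc a ha).map j).mul_left (kc hk w).symm)
  obtain ⟨x, hx, f⟩ := Sylow_subJ (P := cj g S) (M := C1[j w]) (sylow_mk (by rw [← e, C1_conj]; exact cj_mono g hS.1)
    (hS.pg.map _) (by rw [← e, C1_conj, relIndex_cj]; exact hS.not_dvd)) l hS.pg
  have hN : x * g ∈ N[S] := mem_norm.2 (by rw [cj_mul]; exact (eq_of_le_of_card_ge f (by simp)).symm)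
  have e' : x * g * j n * (x * g)⁻¹ = j w := by
    rw [show x * g * j n * (x * g)⁻¹ = x * (g * j n * g⁻¹) * x⁻¹ by group, e, mem_cent1.1 hx, mul_inv_cancel_right]
  generalize x * g = h at hN e'
  have cS : ∀ s, s ∈ S ↔ h * s * h⁻¹ ∈ S := mem_normalizer_iff.1 hN
  by_cases hk : ∃ k ∈ C[j.range], k ∈ S ∧ k * k = j n
  · obtain ⟨k, hk, kS, k2⟩ := hk
    have kc' : ∀ s ∈ S, Commute s k := fun s hs => by
      obtain ⟨a, -, l, hl, lS, rfl⟩ := d hs
      obtain ⟨R, hR⟩ := (show IsPGroup 2 (S.subgroupOf C[j.range]) from hS.pg.comap_of_injective _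
        (subtype_injective _)).exists_le_sylow
      have := H.cyc R
      have := IsCyclic.isMulCommutative (α := (R : Subgroup C[j.range]))
      exact (kc hk a).mul_left (congrArg (fun y : (R : Subgroup C[j.range]) => y.1.1)
        (this.is_comm.comm ⟨⟨l, hl⟩, hR lS⟩ ⟨⟨k, hk⟩, hR kS⟩))
    obtain ⟨a, ha, l, hl, -, f⟩ := d ((cS k).1 kS)
    have ac : ∀ b ∈ T, Commute b a := fun b hb => H.inj (by
      have := (kc' _ ((cS (h⁻¹ * j b * h)).2 (by simpa [mul_assoc] using h3 ⟨b, hb, rfl⟩))).map (MulAut.conj h)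
      simp only [MulAut.conj_apply, f] at this
      replace this : j b * (j a * l) = j a * l * j b := Eq.trans (by group) (this.eq.trans (by group))
      rw [mul_assoc, ← (kc hl b).eq, ← mul_assoc, ← mul_assoc] at this
      rw [map_mul, map_mul, mul_right_cancel this])
    have s : j (a * a) * (l * l) = j w := by
      rw [map_mul, ← (kc hl a).symm.mul_mul_mul_comm, ← f, conj_mul, k2, e']
    have r : rt T n = rt T (a * a * n) := by
      rw [← rt_map H.inj, ← rt_map H.inj]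
      refine rt_eq (Equiv.mulRight (j a)) fun y => ?_
      rw [Equiv.coe_mulRight, (T.map j).mul_mem_cancel_right ⟨a, ha, rfl⟩]
      refine and_congr_right ?_
      rintro ⟨b, hb, rfl⟩
      rw [((ac b hb).map j).symm.mul_mul_mul_comm, ← (H.nc (a * a)).symm.eq, map_mul j n, map_mul j a, mul_left_inj]
    rcases H.inter (a := (a * a)⁻¹ * w) (by rw [map_mul, map_inv, ← s, inv_mul_cancel_left]; exact mul_mem hl hl) with q | q
    · exact c2 (by rw [r, ← inv_mul_eq_one.1 q])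
    · exact c1 (by rw [r, ← inv_mul_eq_iff_eq_mul.1 q])
  · have u : ∀ m, ∀ k ∈ C[j.range], k ∈ S → k ^ 2 ^ m = 1 → k = 1 ∨ k = j n := fun m => by
      induction m with
      | zero => exact fun k _ _ e => .inl (by simpa using e)
      | succ m ih =>
        intro k h1 h2 e
        exact H.uniq h1 ((ih _ (mul_mem h1 h1) (mul_mem h2 h2) (by rwa [← pow_two, ← pow_mul, ← pow_succ'])).resolve_right
          fun e => hk ⟨k, h1, h2, e⟩)
    have eS : T.map j = S := h3.antisymm fun s hs => by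
      obtain ⟨a, ha, k, hk, kS, rfl⟩ := d hs
      obtain ⟨m, f⟩ := hS.pg ⟨k, kS⟩
      refine mul_mem ⟨a, ha, rfl⟩ ?_
      rcases u m k hk kS (congrArg Subtype.val f) with rfl | rfl
      exacts [one_mem _, ⟨n, hn, rfl⟩]
    refine c1 ?_
    rw [← rt_map H.inj, ← rt_map H.inj, eS]
    refine rt_eq (MulAut.conj h).toEquiv fun y => and_congr (cS y) ?_
    rw [← e']
    exact ((MulAut.conj h).injective.eq_iff.symm).trans (by simp)

variable (hI : ∀ b, b * b = 1 → IsConj (j n) (j b) → b = n) {s t : X} (hs : ∀ a, a * a = n → ∃ x, x * a * x⁻¹ = s)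
include hI

theorem typ {u : G} (hu : u ∈ C1[j n]) (h2 : u * u = 1) :
    (∃ a, u = j a ∧ (IsConj (j n) u → a = n)) ∨ ∃ a, ∃ k ∈ C[j.range], u = j a * k ∧ a * a = n ∧ k * k = j n := by
  obtain ⟨a, k, hk, rfl⟩ := dec u hu
  refine (H.sq hk h2).imp (fun h => ?_) fun h => ⟨a, k, hk, rfl, h⟩
  obtain ⟨b, e⟩ : ∃ b, j a * k = j b := by
    rcases h.2 with rfl | rfl
    exacts [⟨a, mul_one _⟩, ⟨_, (map_mul j _ _).symm⟩]
  rw [e] at h2 ⊢
  exact ⟨b, rfl, hI b (H.inj (by rw [map_mul, h2, map_one]))⟩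

include hs
omit dec hI in
theorem cT {a b : X} {k l : G} (hk : k ∈ C[j.range]) (hl : l ∈ C[j.range]) (ha : a * a = n) (hb : b * b = n)
    (k2 : k * k = j n) (l2 : l * l = j n) : ∃ x ∈ C1[j n], x * (j a * k) * x⁻¹ = j b * l := by
  obtain ⟨c, hc, e⟩ := H.four hk hl k2 l2
  have t : ∀ b' : X, b' * b' = n → ∃ x ∈ C1[j n], x * (j a * k) * x⁻¹ = j b' * (c * k * c⁻¹) := fun b' h => by
    obtain ⟨x, hx⟩ := hs a ha
    obtain ⟨y, hy⟩ := hs b' h
    refine ⟨j (y⁻¹ * x) * c, mul_mem (mem_cent1.2 (H.jz _)) (mem_cent1.2 (kc hc _).symm), ?_⟩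
    rw [show b' = y⁻¹ * x * a * (y⁻¹ * x)⁻¹ by rw [← (MulAut.conj y).injective.eq_iff]; simp [hy, ← hx, mul_assoc],
      map_mul j _ _⁻¹, map_mul j _ a, mul_assoc _ _ (c * k * c⁻¹), (kc (mul_mem (mul_mem hc hk) (inv_mem hc)) _).eq, map_inv,
      mul_assoc _ c, ← mul_assoc c, ← (kc hc a).eq]
    group
  rcases e with rfl | e
  · exact t b hb
  · obtain ⟨x, hx, f⟩ := t (b * n) (by rw [(H.nc _).symm.mul_mul_mul_comm, H.nn, mul_one, hb])
    exact ⟨x, hx, by rw [f, e, map_mul, mul_assoc, ← mul_assoc (j n), (kc hl _).eq, mul_assoc l, H.zz, mul_one]⟩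

theorem isol_of (s2 : s * s = n) (t2 : t * t = 1) (cs : Commute t s) (t1 : t ≠ 1) (tn : t ≠ n) (g : G)
    (c : Commute (j n) (g * j n * g⁻¹)) : g * j n * g⁻¹ = j n := by
  by_contra ne
  have n1 : n ≠ 1 := Invol.ne_one_of H.n2
  have T : ∀ u ∈ C1[j n], IsConj (j n) u → u ≠ j n →
      ∃ a, ∃ k ∈ C[j.range], u = j a * k ∧ a * a = n ∧ k * k = j n := fun u hu c ne => by
    obtain ⟨g, rfl⟩ := isConj_iff.1 c
    exact (H.typ dec hI hu (by rw [conj_mul, H.zz]; simp)).resolve_left fun ⟨a, e, f⟩ => ne (by rw [e, f c])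
  obtain ⟨a, k, hk, e, a2, k2⟩ := T _ (mem_cent1.2 c.symm) (isConj_iff.2 ⟨g, rfl⟩) ne
  obtain ⟨x, hx, f⟩ := H.cT hs hk hk a2 s2 k2 k2
  obtain ⟨h, hh⟩ : ∃ h, h⁻¹ * (j s * k) * h = j n := ⟨x * g, by rw [← f, ← e]; group⟩
  have m : ∀ w, Commute w s → h⁻¹ * j w * h ∈ C1[j n] := fun w c => mem_cent1.2 (by
    rw [← hh, cmul, cmul, ((c.map j).mul_right (kc hk w)).eq])
  have cj : ∀ w, IsConj w (h⁻¹ * w * h) := fun w => isConj_iff.2 ⟨h⁻¹, by rw [inv_inv]⟩
  obtain ⟨b, l, hl, e', b2, l2⟩ := T _ (m n (H.nc _).symm) (cj _) fun e => by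
    replace e := mul_left_cancel (mul_right_cancel (e.trans hh.symm))
    have := H.inter (a := s) (by rw [eq_mul_inv_of_mul_eq e.symm]; exact mul_mem H.zK (inv_mem hk))
    exact n1 (s2.symm.trans (by rcases this with e | e <;> simp [e, H.nn]))
  have A : ∀ w, w * w = 1 → Commute w s → w ≠ n → h⁻¹ * j w * h ∈ j.range := fun w hw c ne => by
    rcases H.typ dec hI (m w c) (by rw [cmul, ← map_mul, hw]; simp) with ⟨a, e, -⟩ | ⟨a, k, hk, e, a2, k2⟩
    · exact ⟨a, e.symm⟩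
    · obtain ⟨x, -, f⟩ := H.cT hs hl hk b2 a2 l2 k2
      exact absurd (hI w hw (((cj _).trans (isConj_iff.2 ⟨x, by rw [e', f, e]⟩)).trans (cj _).symm)) ne
  have := mul_mem (A t t2 cs tn) (A (t * n) (by rw [(H.nc _).symm.mul_mul_mul_comm, H.nn, t2, mul_one])
    (cs.mul_left (H.nc _).symm) fun e => t1 (mul_eq_right.1 e))
  rw [cmul, ← map_mul, ← mul_assoc, t2, one_mul, e', j.range.mul_mem_cancel_left ⟨b, rfl⟩] at this
  obtain ⟨d, rfl⟩ := this
  refine H.z1 (l2.symm.trans ?_)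
  rcases H.inter hl with rfl | rfl
  exacts [by simp, H.zz]

end SZ

end Cfsg.Agent.StdZ
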