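import Cfsg.Agent.Known.SchurModel
import Cfsg.Agent.StdZ.Gen

/-! Normal forms in a `2`-group given by a power-conjugate presentation (`wd`, `nf`), enumeration in blocks (helper23). -/

set_option autoImplicit false

namespace Cfsg.Agent.StdZ

open Subgroup Cfsg.Agent.Comp Cfsg.Agent.Known

/-- the letters `s + j` for the bits `j < k` of `c`. -/
def wd (k : ℕ) : ℕ → ℕ → List ℕ :=
  Nat.rec (motive := fun _ => ℕ → ℕ → List ℕ) (fun _ _ => [])
    (fun _ ih s c => force (Nat.shiftRight c 1) fun c' => force (Nat.succ s) fun s' =>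
      bif' (Nat.beq (Nat.land c 1) 1) (s :: ih s' c') (ih s' c')) k

theorem wd_succ (k s c : ℕ) : wd (k + 1) s c = if c % 2 = 1 then s :: wd k (s + 1) (c / 2) else wd k (s + 1) (c / 2) := by
  have : wd (k + 1) s c = force (Nat.shiftRight c 1) fun c' => force (Nat.succ s) fun s' =>
      bif' (Nat.beq (Nat.land c 1) 1) (s :: wd k s' c') (wd k s' c') := rfl
  rw [this, force_eq, force_eq, bif'_eq, show Nat.shiftRight c 1 = c / 2 from Nat.shiftRight_one c,
    show Nat.land c 1 = c % 2 from Nat.and_one_is_mod c]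
  simp only [nbeq]

theorem wd_lt (k : ℕ) : ∀ s c, ∀ l ∈ wd k s c, l < s + k := by
  induction k with
  | zero => exact fun _ _ _ h => absurd h List.not_mem_nil
  | succ k ih =>
    intro s c l h
    rw [wd_succ] at h
    split_ifs at h
    · rcases List.mem_cons.1 h with rfl | h
      · omega
      · have := ih _ _ l h; omega
    · have := ih _ _ l h; omega

theorem nf {G : Type*} [Group G] {D : PcData} (hD : D.ok = true) (pm : D.pm = 1) {x : ℕ → G} (h : D.Rel x) (k : ℕ) :
    ∀ s, s + k = D.n → ∀ g ∈ closure (x '' {i | s ≤ i ∧ i < D.n}), ∃ c < 2 ^ k, g = W x (wd k s c) := by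
  induction k with
  | zero =>
    intro s e g hg
    rw [show {i | s ≤ i ∧ i < D.n} = ∅ by ext; simp; omega, Set.image_empty, Subgroup.closure_empty] at hg
    exact ⟨0, Nat.one_pos, hg⟩
  | succ k ih =>
    intro s e g hg
    replace ih := ih (s + 1) (by omega)
    set H := closure (x '' {i | s + 1 ≤ i ∧ i < D.n})
    have hm : ∀ l, s < l ∧ l < D.n → x l ∈ H := fun l h => subset_closure ⟨l, h, rfl⟩
    have n2 : x s * x s ∈ H := by
      rw [← pow_two, show 2 = D.pm + 1 by omega, h.pow s (by omega)]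
      exact W_mem x fun l hl => hm l (D.ok_pw hD (by omega) l hl)
    have n1 : H ≤ H.comap (MulAut.conj (x s)⁻¹).toMonoidHom := (closure_le _).2 (by
      rintro _ ⟨j, ⟨h1, h2⟩, rfl⟩
      show (x s)⁻¹ * x j * (x s)⁻¹⁻¹ ∈ H
      rw [inv_inv, mul_assoc, h.conj j h2 s h1, inv_mul_cancel_left]
      exact W_mem x fun l hl => hm l (D.ok_cw hD h1 h2 l hl))
    replace n1 : ∀ {a}, a ∈ H → (x s)⁻¹ * a * (x s)⁻¹⁻¹ ∈ H := fun ha => n1 ha
    let K : Subgroup G :=
      { carrier := {g | g ∈ H ∨ (x s)⁻¹ * g ∈ H}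
        one_mem' := .inl (one_mem _)
        mul_mem' := by
          rintro a b (p | p) (q | q)
          · exact .inl (mul_mem p q)
          · exact .inr (by convert mul_mem (n1 p) q using 1; group)
          · exact .inr (by rw [← mul_assoc]; exact mul_mem p q)
          · exact .inl (by convert mul_mem (mul_mem n2 (n1 p)) q using 1; group)
        inv_mem' := by
          rintro a (p | p)
          · exact .inl (inv_mem p)
          · exact .inr (by convert mul_mem (n1 (inv_mem p)) (inv_mem n2) using 1; group) }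
    rcases (closure_le K).2 (by
      rintro _ ⟨j, ⟨h1, h2⟩, rfl⟩
      rcases h1.eq_or_lt with rfl | h1
      exacts [.inr (by simp), .inl (hm j ⟨h1, h2⟩)]) hg with p | p
    · obtain ⟨c, hc, rfl⟩ := ih g p
      exact ⟨2 * c, by omega, by rw [wd_succ, if_neg (by omega), show 2 * c / 2 = c by omega]⟩
    · obtain ⟨c, hc, f⟩ := ih _ p
      exact ⟨2 * c + 1, by omega, by rw [wd_succ, if_pos (by omega), show (2 * c + 1) / 2 = c by omega, W_cons, ← f]; simp⟩

def allB (a b : ℕ) (f : ℕ → Bool) : Bool := allLt a fun j => allLt b fun i => force (Nat.add (Nat.mul j b) i) f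

theorem allB_spec {a b : ℕ} {f : ℕ → Bool} (h : allB a b f = true) {c : ℕ} (hc : c < a * b) : f c = true := by
  have hb : 0 < b := Nat.pos_of_ne_zero (by rintro rfl; simp at hc)
  have := allLt_iff.1 (allLt_iff.1 h (c / b) (Nat.div_lt_of_lt_mul (by rwa [mul_comm]))) (c % b) (Nat.mod_lt _ hb)
  rwa [force_eq, show Nat.add (Nat.mul (c / b) b) (c % b) = c from Nat.div_add_mod' c b] at this

def cntB (a b : ℕ) (f : ℕ → Bool) : ℕ :=
  Nat.rec (motive := fun _ => ℕ) 0 (fun j ih => Nat.add ih (countLt b fun i => force (Nat.add (Nat.mul j b) i) f)) a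

theorem cntB_eq (a b : ℕ) (f : ℕ → Bool) : cntB a b f = ((Finset.range (a * b)).filter fun i => f i = true).card := by
  induction a with
  | zero => simp [cntB]
  | succ a ih =>
    show cntB a b f + countLt b _ = _
    rw [ih, countLt_eq, Finset.card_filter, Finset.card_filter, Finset.card_filter, add_mul, one_mul, Finset.sum_range_add]
    simp only [force_eq]; rfl

theorem rt_cnt {G : Type*} [Group G] {T : Subgroup G} {a b : ℕ} {el : ℕ → G} (h : (T : Set G) = el '' Set.Iio (a * b))
    (hc : Nat.card T = a * b) {u : G} {f : ℕ → Bool} (hf : ∀ c, f c = true ↔ el c * el c = u) : rt T u = cntB a b f := by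
  have i : Set.InjOn el (Set.Iio (a * b)) := Set.injOn_of_ncard_image_eq (by
    rw [← h, Set.ncard_Iio_nat]; exact hc) (Set.finite_Iio _)
  rw [cntB_eq, ← Set.ncard_coe_finset]
  refine (Set.ncard_congr (fun c _ => el c) (fun c hc => ?_) (fun c d hc hd => i ?_ ?_) fun g hg => ?_).symm
  · rw [Finset.mem_coe, Finset.mem_filter, Finset.mem_range] at hc
    exact ⟨show _ ∈ (T : Set G) from h ▸ ⟨c, hc.1, rfl⟩, (hf c).1 hc.2⟩
  · exact Finset.mem_range.1 (Finset.mem_filter.1 hc).1
  · exact Finset.mem_range.1 (Finset.mem_filter.1 hd).1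
  · obtain ⟨c, hc, rfl⟩ := h ▸ (show g ∈ (T : Set G) from hg.1)
    exact ⟨c, Finset.mem_coe.2 (Finset.mem_filter.2 ⟨Finset.mem_range.2 hc, (hf c).2 hg.2⟩), rfl⟩

end Cfsg.Agent.StdZ
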